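import Groth.Agent.Lib.Gaeta20.Main
import Groth.Agent.Lib.SerrePn27.Split
import Groth.Agent.Lib.RankTwo12.Kernel
import Groth.Agent.Lib.RankTwo12.Proj
import Groth.Agent.Lib.Exc20.Ext
import Groth.Agent.Lib.CMReg.Linear
import Groth.Agent.Lib.CMReg.Extension
import Groth.Agent.Lib.GenHom20.Residual
import Groth.Agent.Lib.ProjDim.Const
import Groth.Agent.Lib.QCoh.SupportExact
import Groth.Agent.Lib.CMReg.Resolution

/-!
# Negative two-term resolutions on the plane
-/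

set_option autoImplicit false
set_option maxHeartbeats 1600000
set_option linter.style.haveILetI false
set_option backward.isDefEq.respectTransparency false

universe u

open CategoryTheory CategoryTheory.Limits AlgebraicGeometry
open CategoryTheory.Abelian (Ext)

noncomputable section

namespace GrothLib.NegRes28

variable {k : Type u} [Field k]

local notation "P₂" => CohB1.ProjSpace 2 k

open Gaeta20 (T)


theorem twist_hom_ne (d : ℤ) : 𝟙 (T k d) ≠ 0 := fun h => by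
  haveI : IsIntegral (P₂) := ProjDim.isIntegral_proj k 2
  have hz : IsZero (T k d) := (IsZero.iff_id_eq_zero _).2 h
  have h1 := Euler.isFinLocFreeOfRank_one' (ProjPic26.isInvertible_twistProjSpace 2 k d)
  obtain ⟨D, e, hx, he⟩ := FinCov.exists_frame_nhd_of_rank h1 (genericPoint (P₂))
  obtain ⟨b⟩ := Euler.stalk_basis_of_frame he hx
  haveI : Subsingleton ((T k d).presheaf.stalk (genericPoint (P₂))) :=
    ModuleCat.subsingleton_of_isZero ((OX.stalk (genericPoint (P₂))).map_isZero hz)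
  exact b.ne_zero 0 (Subsingleton.elim _ _)

/-- A bundle on the plane without sections has a resolution by sums of negative twists. -/
theorem exists_resolution (F : (P₂).Modules) {rk : ℕ} (hF : FlatMod.IsFinLocFreeOfRank rk F)
    (h0 : Subsingleton (Coh.HH (P₂) F 0)) :
    ∃ (r s : ℕ) (kk : Fin r → ℤ) (mm : Fin s → ℤ) (S : ShortComplex (P₂).Modules),
      S.ShortExact ∧ (∀ i, kk i < 0) ∧ (∀ j, mm j < 0) ∧
      Nonempty (S.X₁ ≅ ∐ fun i : Fin r => T k (kk i)) ∧
      Nonempty (S.X₂ ≅ ∐ fun j : Fin s => T k (mm j)) ∧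
      Nonempty (S.X₃ ≅ F) := by
  classical
  haveI := Chow.isProper_toSpec 2 k
  haveI : IsLocallyNoetherian (P₂) := LocallyOfFiniteType.isLocallyNoetherian (CohB1.ProjSpace.toSpec 2 k)
  haveI : IsIntegral (P₂) := ProjDim.isIntegral_proj k 2
  haveI : HasExt.{u} (P₂).Modules := ModSupp25.hasExt_mod (P₂).sheaf
  have hFc : Coh.IsCoh F := Euler.isCoh_of_isFinLocFree (FinCov.isFinLocFree_of_rank hF)
  obtain ⟨z0⟩ := Gaeta20.nonempty_Ft_zero (k := k) F
  -- no maps from nonnegative twists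
  have hT0 : ∀ f : T k 0 ⟶ F, f = 0 := Gaeta20.eq_zero_of_subsingleton_ext
    ((Gaeta20.subsingleton_ext_twist_iff F 0 0 rfl 0).2 (CMReg.subsingleton_of_iso z0.symm h0))
  have hneg : ∀ (s : ℤ), 0 ≤ s → ∀ f : T k s ⟶ F, f = 0 := fun s hs f => by
    by_contra hf
    haveI := RankTwo12.mono_of_ne_zero (ProjPic26.isInvertible_twistProjSpace 2 k s) hF hf
    obtain ⟨u, hu⟩ := RankTwo12.exists_hom_O (n := 2) (k := k) hs
    exact hu ((cancel_mono f).1 ((hT0 (u ≫ f)).trans zero_comp.symm))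
  -- regularity
  obtain ⟨t₀, ht₀⟩ := CMReg.exists_serre_bound hFc
  obtain ⟨m, hm1, hm2⟩ : ∃ m : ℕ, 1 ≤ m ∧ t₀ + 2 ≤ (m : ℤ) := ⟨(t₀ + 2).toNat + 1, by omega, by omega⟩
  obtain ⟨b₀, φ, hφ, hKc, hKreg, -⟩ := CMReg.exists_linear_step hFc (m : ℤ) fun i hi hi2 => ht₀ _ (by omega) i hi
  have hK1 : ∀ j : ℤ, (m : ℤ) ≤ j → Subsingleton (Coh.HH (P₂) (CMReg.Ft (kernel φ) j) 1) := fun j hj =>
    CMReg.propagate hKc ((m : ℤ) + 1) hKreg 1 j le_rfl (by omega)
  have hfin : ∀ j : ℤ, Module.Finite k (T k (-j) ⟶ F) := fun j => by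
    obtain ⟨u, u', w, ⟨w'⟩⟩ := Gaeta20.exists_tensor_data F (-j) j (add_neg_cancel j)
    obtain ⟨E⟩ := SerrePn27.nonempty_hom_equiv_of_tensor (k := k) u u' w w'
    haveI := CMReg.finiteDimensional_Ft hFc j 0
    exact Module.Finite.equiv E.symm
  -- the generators
  let jv : Fin m → ℤ := fun l => (l : ℤ) + 1
  haveI := fun l : Fin m => hfin (jv l)
  let B := fun l : Fin m => Module.finBasis k (T k (-(jv l)) ⟶ F)
  let I := Σ l : Fin m, Fin (Module.finrank k (T k (-(jv l)) ⟶ F))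
  let s := Fintype.card I
  let q : Fin s ≃ I := (Fintype.equivFin I).symm
  let mm : Fin s → ℤ := fun a => -(jv (q a).1)
  let L : (P₂).Modules := ∐ fun a : Fin s => T k (mm a)
  let g : L ⟶ F := Sigma.desc fun a => B (q a).1 (q a).2
  have liftB : ∀ (l : Fin m) (f : T k (-(jv l)) ⟶ F), ∃ h, h ≫ g = f := fun l f => by
    have hb : ∀ x, ∃ h, h ≫ g = B l x := fun x => by
      obtain ⟨a, ha⟩ : ∃ a, q a = ⟨l, x⟩ := ⟨q.symm ⟨l, x⟩, q.apply_symm_apply _⟩
      have key : ∀ p : I, p = q a → ∃ h, h ≫ g = B p.1 p.2 := fun p hp => by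
        subst hp; exact ⟨Sigma.ι (fun a : Fin s => T k (mm a)) a, Sigma.ι_desc _ _⟩
      exact key ⟨l, x⟩ ha.symm
    choose h hh using hb
    refine ⟨∑ x, (B l).repr f x • h x, ?_⟩
    rw [Preadditive.sum_comp]
    refine Eq.trans ?_ ((B l).sum_repr f)
    exact Finset.sum_congr rfl fun x _ => by rw [Linear.smul_comp, hh]
  have liftj : ∀ (j : ℤ), 1 ≤ j → j ≤ (m : ℤ) → ∀ f : T k (-j) ⟶ F, ∃ h, h ≫ g = f := fun j h1 h2 => by
    obtain ⟨l, rfl⟩ : ∃ l : Fin m, j = jv l := ⟨⟨(j - 1).toNat, by omega⟩, by simp [jv]; omega⟩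
    exact liftB l
  choose hl hhl using fun l => liftj (m : ℤ) (by omega) le_rfl
    (Sigma.ι (fun _ : Fin b₀ => T k (-(m : ℤ))) l ≫ φ)
  have hfac : Sigma.desc hl ≫ g = φ := Sigma.hom_ext _ _ fun l => by rw [Sigma.ι_desc_assoc, hhl l]
  haveI := hφ
  haveI : Epi g := epi_of_epi_fac hfac
  have hS₀ : (ShortComplex.mk (kernel.ι φ) φ (kernel.condition φ)).ShortExact :=
    { exact := ShortComplex.exact_of_f_is_kernel _ (kernelIsKernel φ) }
  let S := ShortComplex.mk (kernel.ι g) g (kernel.condition g)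
  have hS : S.ShortExact := { exact := ShortComplex.exact_of_f_is_kernel _ (kernelIsKernel g) }
  have lift : ∀ (t : ℤ) (f : T k t ⟶ F), ∃ h, h ≫ g = f := fun t f => by
    obtain ⟨j, rfl⟩ : ∃ j, t = -j := ⟨-t, (neg_neg t).symm⟩
    by_cases h1 : j ≤ 0
    · exact ⟨0, by rw [zero_comp, hneg (-j) (by omega) f]⟩
    by_cases h2 : j ≤ (m : ℤ)
    · exact liftj j (by omega) h2 f
    · obtain ⟨h, hh⟩ := Gaeta20.exists_lift_of_ext hS₀
        ((Gaeta20.subsingleton_ext_twist_iff _ (-j) j (add_neg_cancel j) 1).2 (hK1 j (by omega))) f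
      exact ⟨h ≫ Sigma.desc hl, by rw [Category.assoc, hfac]; exact hh⟩
  have hextL : ∀ (t : ℤ) (i : ℕ), (i = 1 ∨ (i = 0 ∧ 0 ≤ t)) → Subsingleton (Ext (T k t) L i) := fun t i hi =>
    Exc20.subsingleton_to_sigma (T k t) (Iso.refl _) fun a => by
      refine Gaeta20.subsingleton_ext_T t (mm a) i (fun h => ?_) (fun h => ?_)
      · rcases hi with hi | hi
        · omega
        · have : mm a < 0 := by simp only [mm, jv]; omega
          omega
      · omega
  have hKL : Coh.IsCoh (kernel g) := QCoh.isCoh_kernel g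
    (Euler.isCoh_of_isFinLocFree (OX.isFinLocFree_sigma _ fun a =>
      Euler.isFinLocFree_of_isInvertible (ProjPic26.isInvertible_twistProjSpace 2 k (mm a)))) hFc
  have hKzero : ∀ t : ℤ, 0 ≤ t → ∀ f : T k t ⟶ kernel g, f = 0 := fun t ht f => by
    rw [← cancel_mono (kernel.ι g), zero_comp]
    exact Gaeta20.eq_zero_of_subsingleton_ext (hextL t 0 (Or.inr ⟨rfl, ht⟩)) _
  obtain ⟨r, kk, ⟨eK⟩⟩ := (SerrePn27.exists_iso_sum_twists_iff (n := 2) (k := k) (by omega) hKL).2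
    ⟨⟨0, fun t ht => (Gaeta20.subsingleton_ext_twist_iff _ (-t) t (add_neg_cancel t) 0).1
      (subsingleton_of_forall_eq 0 fun x => by
        obtain ⟨y, rfl⟩ := (Ext.mk₀_bijective _ _).2 x
        rw [hKzero (-t) (by omega) y, Ext.mk₀_zero])⟩,
    fun t i hi hi2 => by
      obtain rfl : i = 1 := by omega
      exact (Gaeta20.subsingleton_ext_twist_iff _ (-t) t (add_neg_cancel t) 1).1
        (Gaeta20.subsingleton_ext_X₁_one hS (hextL _ 1 (Or.inl rfl)) (lift _))⟩
  refine ⟨r, s, kk, mm, S, hS, fun a => ?_, fun a => by simp only [mm, jv]; omega, ⟨eK⟩, ⟨Iso.refl _⟩, ⟨Iso.refl _⟩⟩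
  by_contra hneg'
  have h1 := hKzero (kk a) (by omega) (Sigma.ι (fun i : Fin r => T k (kk i)) a ≫ eK.inv)
  refine twist_hom_ne (k := k) (kk a) ?_
  rw [← GenHom20.ι_proj_self (fun i : Fin r => T k (kk i)) a, ← Category.comp_id (Sigma.ι _ a), ← eK.inv_hom_id,
    reassoc_of% h1, zero_comp]
  exact zero_comp

end GrothLib.NegRes28
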